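import Groth.Agent.OmegaAffLib.Diag
import Groth.Agent.PullbackMod.Sections

/-!
# Sections of the sheaf of differentials over affine opens are the Kähler differentials
-/

set_option autoImplicit false
set_option backward.isDefEq.respectTransparency false
set_option backward.defeqAttrib.useBackward true
set_option linter.style.haveILetI false

universe u

open CategoryTheory CategoryTheory.Limits AlgebraicGeometry TopologicalSpace Opposite TensorProduct

namespace Groth.Agent.OmegaAffLib

variable {X Y : Scheme.{u}} (f : X ⟶ Y)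

/-- The sheaf of differentials is quasi-coherent. -/
theorem isQCoh_omega : Coh.IsQCoh (Omega.sheaf f) :=
  haveI := isQCoh_idealMod (pullback.diagonal f).ker
  PullbackMod.isQCoh_pullback (pullback.diagonal f) (ClSub.idealMod (pullback.diagonal f).ker)

variable [QuasiSeparated f]

theorem mem_ker_ideal_iff {U : X.Opens} (hW : IsAffineOpen (OmegaSh.diagNbhd f U))
    (x : Γ(pullback f f, OmegaSh.diagNbhd f U)) :
    x ∈ (pullback.diagonal f).ker.ideal ⟨_, hW⟩ ↔ delta f U x = 0 := by
  rw [Scheme.Hom.ker_apply, RingHom.mem_ker]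
  refine ⟨fun hx => ?_, fun hx => ?_⟩
  · show X.presheaf.map _ ((pullback.diagonal f).app _ x) = 0
    rw [hx, map_zero]
  · have := congrArg (X.presheaf.map (homOfLE (OmegaSh.diagonal_preimage_le f
      (le_refl (OmegaSh.diagNbhd f U)))).op) hx
    rw [map_zero] at this
    rw [← this]
    show _ = X.presheaf.map _ (X.presheaf.map _ ((pullback.diagonal f).app _ x))
    rw [OmegaSh.res_res, OmegaSh.res_refl]

/-- `dSect` is the pullback of the lifted difference. -/
theorem dSect_eq (U : X.Opens) (b : Γ(X, U)) :
    OmegaSh.dSect f U b = PullbackMod.pullMapL (pullback.diagonal f)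
      (ClSub.idealMod (pullback.diagonal f).ker) (OmegaSh.le_preimage_diagNbhd f U)
      (OmegaSh.idealLift f U b) :=
  rfl

/-- A linear map from the Kähler differentials sending `d b` to `d b` is bijective. -/
theorem bijective_of_D {V : Y.Opens} {U : X.Opens} (hV : IsAffineOpen V) (hU : IsAffineOpen U)
    (h : U ≤ f ⁻¹ᵁ V) :
    letI := (f.appLE V U h).hom.toAlgebra
    ∀ T : Ω[Γ(X, U)⁄Γ(Y, V)] →ₗ[Γ(X, U)] Γ(Omega.sheaf f, U),
      (∀ b, T (KaehlerDifferential.D Γ(Y, V) Γ(X, U) b) = OmegaSh.dSect f U b) →
      Function.Bijective T := by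
  letI := (f.appLE V U h).hom.toAlgebra
  intro T hT
  let A := Γ(Y, V)
  let B := Γ(X, U)
  let W := OmegaSh.diagNbhd f U
  let P := Γ(pullback f f, W)
  let K := (pullback.diagonal f).ker
  have hW := isAffineOpen_diagNbhd f hV hU h
  let e : B ⊗[A] B ≃+* P := RingEquiv.ofBijective (tens f h) (tens_bijective f h hV hU)
  letI : Algebra P B := (delta f U).hom.toAlgebra
  letI := Module.compHom Γ(Omega.sheaf f, U) (delta f U).hom
  letI : Module P Γ((Scheme.Modules.pullback (pullback.diagonal f)).obj (ClSub.idealMod K), U) :=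
    Module.compHom _ (delta f U).hom
  haveI : IsScalarTower P B Γ((Scheme.Modules.pullback (pullback.diagonal f)).obj
      (ClSub.idealMod K), U) := .of_algebraMap_smul fun _ _ => rfl
  letI := Module.compHom Ω[B⁄A] (delta f U).hom
  haveI : IsScalarTower P B Γ(Omega.sheaf f, U) := .of_algebraMap_smul fun _ _ => rfl
  haveI : IsScalarTower P B Ω[B⁄A] := .of_algebraMap_smul fun _ _ => rfl
  haveI : Coh.IsQCoh (ClSub.idealMod K) := isQCoh_idealMod K
  have hbc : IsBaseChange B (PullbackMod.pullMapL (pullback.diagonal f) (ClSub.idealMod K)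
      (OmegaSh.le_preimage_diagNbhd f U)) :=
    PullbackMod.isBaseChange_pullMapL (pullback.diagonal f) (ClSub.idealMod K) hW hU
      (OmegaSh.le_preimage_diagNbhd f U)
  -- sections of the ideal land in the ideal of the diagonal
  have hmem : ∀ m : Γ(ClSub.idealMod K, W),
      e.symm (OmegaSh.idealSect K W m) ∈ KaehlerDifferential.ideal A B := fun m => by
    show Algebra.TensorProduct.lmul' (S := B) A _ = 0
    rw [← delta_tens f h]
    show delta f U (e (e.symm _)) = 0
    rw [RingEquiv.apply_symm_apply]
    exact (mem_ker_ideal_iff f hW _).mp ((mem_range_idealSect K ⟨W, hW⟩ _).mpr ⟨m, rfl⟩)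
  -- multiplication on the Kähler differentials factors through the diagonal
  have hact : ∀ (t : B ⊗[A] B) (ω : Ω[B⁄A]),
      t • ω = (Algebra.TensorProduct.lmul' (S := B) A t) • ω := by
    intro t ω
    obtain ⟨x, rfl⟩ := KaehlerDifferential.fromIdeal_surjective A B ω
    rw [← sub_eq_zero, ← IsScalarTower.algebraMap_smul (B ⊗[A] B)
      (Algebra.TensorProduct.lmul' (S := B) A t) (KaehlerDifferential.fromIdeal A B x), ← sub_smul,
      ← map_smul]
    refine (Ideal.toCotangent_eq_zero _ _).mpr ?_
    rw [pow_two]
    refine Ideal.mul_mem_mul ?_ x.2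
    show Algebra.TensorProduct.lmul' (S := B) A _ = 0
    simp
  let ψ : Γ(ClSub.idealMod K, W) →ₗ[P] Ω[B⁄A] :=
    { toFun := fun m => KaehlerDifferential.fromIdeal A B ⟨_, hmem m⟩
      map_add' := fun m m' => by
        rw [← map_add]
        congr 1
        exact Subtype.ext ((congrArg e.symm (map_add (OmegaSh.idealSect K W) m m')).trans
          (map_add e.symm _ _))
      map_smul' := fun r m => by
        show _ = delta f U r • KaehlerDifferential.fromIdeal A B ⟨_, hmem m⟩
        conv_rhs => rw [← e.apply_symm_apply r]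
        show _ = delta f U (tens f h (e.symm r)) • _
        rw [delta_tens f h, ← hact, ← map_smul]
        congr 1
        exact Subtype.ext ((congrArg e.symm (idealSect_smul K W r m)).trans (map_mul e.symm _ _)) }
  have hψ : ∀ b, ψ (OmegaSh.idealLift f U b) = KaehlerDifferential.D A B b := by
    intro b
    rw [KaehlerDifferential.D_apply]
    refine congrArg (KaehlerDifferential.fromIdeal A B) (Subtype.ext (e.injective ?_))
    refine (e.apply_symm_apply _).trans (Eq.trans ?_ (tens_diff f h b).symm)
    exact congrArg (OmegaSh.fnSect _ W) (OmegaSh.ι_idealLift f U b)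
  let L : Γ(Omega.sheaf f, U) →ₗ[B] Ω[B⁄A] := hbc.lift ψ
  have hL : ∀ m, L (PullbackMod.pullMapL (pullback.diagonal f) (ClSub.idealMod K)
      (OmegaSh.le_preimage_diagNbhd f U) m) = ψ m := fun m => hbc.lift_eq ψ m
  -- the ideal is generated by the differences
  have hgen : Submodule.span P (Set.range fun b => OmegaSh.idealLift f U b) = ⊤ := by
    refine eq_top_iff.mpr fun m _ => ?_
    let ι : Γ(ClSub.idealMod K, W) →ₗ[P] P :=
      { toFun := OmegaSh.idealSect K W
        map_add' := map_add _
        map_smul' := fun r n => idealSect_smul K W r n }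
    have h1 : ι m ∈ Ideal.map e.toRingHom (KaehlerDifferential.ideal A B) := by
      rw [show ι m = e.toRingHom (e.symm (ι m)) from (e.apply_symm_apply _).symm]
      exact Ideal.mem_map_of_mem _ (hmem m)
    rw [← KaehlerDifferential.span_range_eq_ideal, Ideal.map_span] at h1
    have h2 : ι m ∈ (Submodule.span P (Set.range fun b => OmegaSh.idealLift f U b)).map ι := by
      rw [Submodule.map_span]
      refine Submodule.span_mono ?_ h1
      rintro _ ⟨_, ⟨b, rfl⟩, rfl⟩
      exact ⟨_, ⟨b, rfl⟩, (congrArg (OmegaSh.fnSect _ W) (OmegaSh.ι_idealLift f U b)).trans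
        (tens_diff f h b).symm⟩
    obtain ⟨n, hn, he⟩ := h2
    exact idealSect_injective K W he ▸ hn
  have hLT : L ∘ₗ T = LinearMap.id := by
    refine LinearMap.ext_on (KaehlerDifferential.span_range_derivation A B) ?_
    rintro _ ⟨b, rfl⟩
    show L (T _) = KaehlerDifferential.D A B b
    rw [hT, dSect_eq, hL, hψ]
  have hTL : T ∘ₗ L = LinearMap.id := by
    refine hbc.algHom_ext _ _ fun m => ?_
    show T (L _) = _
    rw [hL]
    have hq : (T.restrictScalars P).comp ψ = PullbackMod.pullMapL (pullback.diagonal f)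
        (ClSub.idealMod K) (OmegaSh.le_preimage_diagNbhd f U) := by
      refine LinearMap.ext_on hgen ?_
      rintro _ ⟨b, rfl⟩
      show T (ψ _) = _
      rw [hψ, hT]
      rfl
    exact LinearMap.congr_fun hq m
  exact Function.bijective_iff_has_inverse.mpr
    ⟨L, fun x => LinearMap.congr_fun hLT x, fun x => LinearMap.congr_fun hTL x⟩

/-- The comparison map is an isomorphism on affine opens. -/
theorem isIso_toSect {V : Y.Opens} {U : X.Opens} (hV : IsAffineOpen V) (hU : IsAffineOpen U)
    (h : U ≤ f ⁻¹ᵁ V) : IsIso (OmAff.toSect f V U h) := by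
  rw [ConcreteCategory.isIso_iff_bijective]
  exact bijective_of_D f hV hU h (OmAff.toSect f V U h).hom fun b => OmAff.toSect_d f V U h b

end Groth.Agent.OmegaAffLib
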