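import Groth.Prelude.Def_OmAff
import Groth.Agent.QCohLib.Exact
import Groth.Agent.QCohLib.Push

/-!
# The ideal sheaf of a closed subscheme as a module: quasi-coherence and sections
-/

set_option autoImplicit false
set_option backward.isDefEq.respectTransparency false
set_option backward.defeqAttrib.useBackward true
set_option linter.style.haveILetI false

universe u

open CategoryTheory CategoryTheory.Limits AlgebraicGeometry TopologicalSpace Opposite

namespace Groth.Agent.OmegaAffLib

variable {P : Scheme.{u}} (K : P.IdealSheafData)

/-- The ideal module of a quasi-coherent ideal sheaf is quasi-coherent. -/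
theorem isQCoh_idealMod : Coh.IsQCoh (ClSub.idealMod K) := by
  haveI : Coh.IsQCoh (Coh.structureModule K.subscheme) := inferInstance
  exact (QCohLib.isQCoh_image (ClSub.toSubscheme K) inferInstance
    (QCohLib.isQCoh_pushforward (Coh.structureModule K.subscheme) K.subschemeι)).1

/-- `idealSect` is linear over the functions. -/
theorem idealSect_smul (W : P.Opens) (r : Γ(P, W)) (m : Γ(ClSub.idealMod K, W)) :
    OmegaSh.idealSect K W (r • m) = r * OmegaSh.idealSect K W m :=
  Scheme.Modules.Hom.app_smul (ClSub.idealModι K) r m

theorem idealSect_injective (W : P.Opens) : Function.Injective (OmegaSh.idealSect K W) :=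
  fun _ _ h => OmegaSh.idealModι_app_injective W K h

/-- On an affine open the sections of the ideal module are the ideal. -/
theorem mem_range_idealSect (W : P.affineOpens) (x : Γ(P, W.1)) :
    x ∈ K.ideal W ↔ ∃ m, OmegaSh.idealSect K W.1 m = x := by
  rw [← Scheme.IdealSheafData.ker_subschemeι_app, RingHom.mem_ker]
  constructor
  · intro hx
    exact ⟨OmegaSh.kerLift (ClSub.toSubscheme K) W.1 (OmegaSh.strSect P W.1 x)
      ((OmegaSh.toSubscheme_app_strSect W.1 K x).trans hx), OmegaSh.ι_kerLift _ _ _ _⟩
  · rintro ⟨m, rfl⟩
    exact congr(($(kernel.condition (ClSub.toSubscheme K))).app W.1 m)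

end Groth.Agent.OmegaAffLib
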