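import Groth.Agent.OmegaAffLib.Main
import Groth.Agent.DCohLib.SuppOpen

/-!
# Differentials of a map of affine schemes, and vanishing of the sheaf of differentials
-/

set_option autoImplicit false
set_option backward.isDefEq.respectTransparency false
set_option backward.defeqAttrib.useBackward true
set_option linter.style.haveILetI false

universe u

open CategoryTheory CategoryTheory.Limits AlgebraicGeometry TopologicalSpace Opposite

namespace Groth.Agent.OmegaAffLib

theorem bijective_toSpec (A B : Type u) [CommRing A] [CommRing B] [Algebra A B] :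
    Function.Bijective (OmAff.toSpec A B) := by
  let f := Spec.map (CommRingCat.ofHom (algebraMap A B))
  let V : (Spec (CommRingCat.of A)).Opens := ⊤
  let U : (Spec (CommRingCat.of B)).Opens := ⊤
  let φ := f.appLE V U le_top
  letI := φ.hom.toAlgebra
  let T : Ω[Γ(Spec (CommRingCat.of B), U)⁄Γ(Spec (CommRingCat.of A), V)] →ₗ[Γ(Spec (CommRingCat.of B), U)] Γ(Omega.sheaf f, U) := (OmAff.toSect f V U le_top).hom
  have hT : ∀ b, T (KaehlerDifferential.D Γ(Spec (CommRingCat.of A), V) Γ(Spec (CommRingCat.of B), U) b) = OmegaSh.dSect f U b :=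
    fun b => OmAff.toSect_d f V U le_top b
  have hb := bijective_of_D f (isAffineOpen_top _) (isAffineOpen_top _) le_top T hT
  let eB := (Scheme.ΓSpecIso (CommRingCat.of B))
  have hφ : ∀ a, φ (OmAff.toΓ A a) = OmAff.toΓ B (algebraMap A B a) := fun a => by
    show f.appLE ⊤ ⊤ le_top _ = _
    rw [Scheme.Hom.appLE, ConcreteCategory.comp_apply]
    refine Eq.trans ?_ (OmAff.appTop_toΓ A B a)
    exact congr($((Spec (CommRingCat.of B)).presheaf.map_id _) _)
  -- the derivation of the ring of global functions into `Ω[B⁄A]`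
  letI : Module Γ(Spec (CommRingCat.of B), U) Ω[B⁄A] := Module.compHom _ (show Γ(Spec (CommRingCat.of B), U) →+* B from eB.hom.hom)
  letI : Module Γ(Spec (CommRingCat.of A), V) Ω[B⁄A] := Module.compHom _ (eB.hom.hom.comp φ.hom)
  haveI : IsScalarTower Γ(Spec (CommRingCat.of A), V) Γ(Spec (CommRingCat.of B), U) Ω[B⁄A] := ⟨fun r s m => by
    show eB.hom (φ r * s) • m = eB.hom (φ r) • (eB.hom s • m)
    rw [map_mul, mul_smul]⟩
  let d : Derivation Γ(Spec (CommRingCat.of A), V) Γ(Spec (CommRingCat.of B), U) Ω[B⁄A] := Derivation.mk'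
    { toFun := fun s => KaehlerDifferential.D A B (eB.hom s)
      map_add' := fun s t => by rw [map_add, map_add]
      map_smul' := fun r s => by
        obtain ⟨a, rfl⟩ : ∃ a, OmAff.toΓ A a = r :=
          ⟨_, congr($((Scheme.ΓSpecIso (CommRingCat.of A)).hom_inv_id) r)⟩
        show KaehlerDifferential.D A B (eB.hom (φ (OmAff.toΓ A a) * s)) =
          eB.hom (φ (OmAff.toΓ A a)) • KaehlerDifferential.D A B (eB.hom s)
        have : eB.hom (φ (OmAff.toΓ A a)) = algebraMap A B a := by
          rw [hφ]; exact congr($(eB.inv_hom_id) _)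
        rw [map_mul, this, ← Algebra.smul_def, Derivation.map_smul, algebraMap_smul] }
    fun s t => by
      show KaehlerDifferential.D A B (eB.hom (s * t)) =
        eB.hom s • KaehlerDifferential.D A B (eB.hom t) + eB.hom t • KaehlerDifferential.D A B (eB.hom s)
      rw [map_mul, Derivation.leibniz]
  let G := d.liftKaehlerDifferential
  have hG : ∀ b : B, G (KaehlerDifferential.D Γ(Spec (CommRingCat.of A), V) Γ(Spec (CommRingCat.of B), U) (OmAff.toΓ B b)) =
      KaehlerDifferential.D A B b := fun b => by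
    rw [d.liftKaehlerDifferential_comp_D]
    exact congrArg (KaehlerDifferential.D A B) congr($(eB.inv_hom_id) b)
  have hsurj : ∀ s : Γ(Spec (CommRingCat.of B), U), ∃ b, OmAff.toΓ B b = s :=
    fun s => ⟨eB.hom s, congr($(eB.hom_inv_id) s)⟩
  refine ⟨fun x y hxy => ?_, fun n => ?_⟩
  · let Tinv := (LinearEquiv.ofBijective T hb).symm
    suffices hs : ∀ x, G (Tinv (OmAff.toSpec A B x)) = x by rw [← hs x, hxy, hs y]
    intro x
    have hx : x ∈ Submodule.span B (Set.range (KaehlerDifferential.D A B)) := by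
      rw [KaehlerDifferential.span_range_derivation]; trivial
    induction hx using Submodule.span_induction with
    | mem y hy =>
      obtain ⟨b, rfl⟩ := hy
      rw [OmAff.toSpec_D]
      refine Eq.trans (congrArg G ?_) (hG b)
      exact (LinearEquiv.symm_apply_eq _).mpr (hT _).symm
    | zero => rw [map_zero, map_zero, map_zero]
    | add y z _ _ hy hz => rw [map_add, map_add, map_add, hy, hz]
    | smul b y _ hy =>
      rw [LinearMap.map_smulₛₗ]
      erw [map_smul Tinv, map_smul G, hy]
      show eB.hom (OmAff.toΓ B b) • y = b • y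
      rw [show eB.hom (OmAff.toΓ B b) = b from congr($(eB.inv_hom_id) b)]
  · obtain ⟨ω, rfl⟩ := hb.2 n
    have hω : ω ∈ Submodule.span Γ(Spec (CommRingCat.of B), U) (Set.range (KaehlerDifferential.D Γ(Spec (CommRingCat.of A), V) Γ(Spec (CommRingCat.of B), U))) := by
      rw [KaehlerDifferential.span_range_derivation]; trivial
    induction hω using Submodule.span_induction with
    | mem y hy =>
      obtain ⟨s, rfl⟩ := hy
      obtain ⟨b, rfl⟩ := hsurj s
      exact ⟨KaehlerDifferential.D A B b, (OmAff.toSpec_D A B b).trans (hT _).symm⟩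
    | zero => exact ⟨0, by rw [map_zero, map_zero]⟩
    | add y z _ _ hy hz =>
      obtain ⟨x₁, h₁⟩ := hy
      obtain ⟨x₂, h₂⟩ := hz
      exact ⟨x₁ + x₂, by rw [map_add, map_add, h₁, h₂]⟩
    | smul s y _ hy =>
      obtain ⟨x₁, h₁⟩ := hy
      obtain ⟨b, rfl⟩ := hsurj s
      exact ⟨b • x₁, by rw [LinearMap.map_smulₛₗ, h₁, map_smul]⟩

/-- The sheaf of differentials vanishes iff the morphism is formally unramified. -/
theorem formallyUnramified_iff_isZero {X Y : Scheme.{u}} (f : X ⟶ Y) [QuasiSeparated f] :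
    FormallyUnramified f ↔ IsZero (Omega.sheaf f) := by
  have key : ∀ {V : Y.Opens} {U : X.Opens} (hV : IsAffineOpen V) (hU : IsAffineOpen U)
      (e : U ≤ f ⁻¹ᵁ V), (f.appLE V U e).hom.FormallyUnramified ↔
        Subsingleton Γ(Omega.sheaf f, U) := by
    intro V U hV hU e
    letI := (f.appLE V U e).hom.toAlgebra
    have hb := bijective_of_D f hV hU e (OmAff.toSect f V U e).hom fun b =>
      OmAff.toSect_d f V U e b
    show Algebra.FormallyUnramified Γ(Y, V) Γ(X, U) ↔ _
    rw [Algebra.formallyUnramified_iff]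
    exact (Equiv.ofBijective _ hb).subsingleton_congr
  constructor
  · intro hf
    have hff := (HasRingHomProperty.iff_appLE (P := @FormallyUnramified)).mp hf
    refine Groth.Agent.DCohLib.isZero_of_stalks fun x => ?_
    refine subsingleton_of_forall_eq 0 fun z => ?_
    obtain ⟨W, hxW, s, rfl⟩ := (Omega.sheaf f).presheaf.exists_germ_eq z
    obtain ⟨_, ⟨V : Y.Opens, (hV : IsAffineOpen V), rfl⟩, hxV, -⟩ :=
      Y.isBasis_affineOpens.exists_subset_of_mem_open (Set.mem_univ (f x)) isOpen_univ
    obtain ⟨_, ⟨U : X.Opens, (hU : IsAffineOpen U), rfl⟩, hxU, hUV⟩ :=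
      X.isBasis_affineOpens.exists_subset_of_mem_open (a := x)
        (u := ((f ⁻¹ᵁ V ⊓ W : X.Opens) : Set X)) ⟨hxV, hxW⟩ (f ⁻¹ᵁ V ⊓ W).2
    haveI := (key hV hU (fun y hy => (hUV hy).1)).mp
      (hff ⟨V, hV⟩ ⟨U, hU⟩ fun y hy => (hUV hy).1)
    rw [← TopCat.Presheaf.germ_res_apply _ (homOfLE fun y hy => (hUV hy).2) x hxU,
      Subsingleton.elim ((Omega.sheaf f).presheaf.map _ s) 0, map_zero]
  · intro h0
    refine (HasRingHomProperty.iff_appLE (P := @FormallyUnramified)).mpr fun V U e => ?_
    refine (key V.2 U.2 e).mpr (subsingleton_of_forall_eq 0 fun s => ?_)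
    exact congr(($(h0.eq_of_src (𝟙 _) 0)).app U.1 s)

end Groth.Agent.OmegaAffLib
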