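import Groth.Agent.OmegaAffLib.Main
import Groth.Agent.FlatLocus.ModInjFlat
import Groth.Agent.EtLocalLib.SchemeLocal
import Mathlib.RingTheory.Etale.Kaehler

/-!
# Stalks of the sheaf of differentials
-/

set_option autoImplicit false
set_option backward.isDefEq.respectTransparency false
set_option backward.defeqAttrib.useBackward true
set_option linter.style.haveILetI false

universe u

open CategoryTheory CategoryTheory.Limits AlgebraicGeometry TopologicalSpace Opposite
open Groth.Agent.FlatLocus

namespace Groth.Agent.OmegaAffLib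

variable {X Y : Scheme.{u}} (f : X ⟶ Y) [QuasiSeparated f]

/-- The stalk of the sheaf of differentials is the localisation of the Kähler differentials. -/
theorem isLocalizedModule_stalk {V : Y.Opens} {U : X.Opens} (hV : IsAffineOpen V) (hU : IsAffineOpen U)
    (h : U ≤ f ⁻¹ᵁ V) (x : X) (hx : x ∈ U) :
    letI := (f.appLE V U h).hom.toAlgebra
    letI := Module.compHom ((Omega.sheaf f).presheaf.stalk x) (X.presheaf.germ U x hx).hom
    IsLocalizedModule (hU.primeIdealOf ⟨x, hx⟩).asIdeal.primeCompl
      ((germL (Omega.sheaf f) U x hx).comp (OmAff.toSect f V U h).hom) := by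
  letI := (f.appLE V U h).hom.toAlgebra
  letI := Module.compHom ((Omega.sheaf f).presheaf.stalk x) (X.presheaf.germ U x hx).hom
  haveI : Coh.IsQCoh (Omega.sheaf f) := isQCoh_omega f
  haveI := isLocalizedModule_germL (Omega.sheaf f) hU x hx
  exact IsLocalizedModule.of_linearEquiv_right (hU.primeIdealOf ⟨x, hx⟩).asIdeal.primeCompl
    (germL (Omega.sheaf f) U x hx)
    (LinearEquiv.ofBijective (OmAff.toSect f V U h).hom
      (bijective_of_D f hV hU h _ fun b => OmAff.toSect_d f V U h b))

/-- The stalk of the sheaf of differentials vanishes iff the stalk map is formally unramified. -/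
theorem subsingleton_stalk_iff (x : X) :
    Subsingleton ((Omega.sheaf f).presheaf.stalk x) ↔ (f.stalkMap x).hom.FormallyUnramified := by
  obtain ⟨_, ⟨V : Y.Opens, (hV : IsAffineOpen V), rfl⟩, hxV, -⟩ :=
    Y.isBasis_affineOpens.exists_subset_of_mem_open (Set.mem_univ (f x)) isOpen_univ
  obtain ⟨_, ⟨U : X.Opens, (hU : IsAffineOpen U), rfl⟩, hxU, hUV⟩ :=
    X.isBasis_affineOpens.exists_subset_of_mem_open (a := x) (u := ↑(f ⁻¹ᵁ V)) hxV (f ⁻¹ᵁ V).2
  letI := (f.appLE V U hUV).hom.toAlgebra
  letI := Module.compHom ((Omega.sheaf f).presheaf.stalk x) (X.presheaf.germ U x hxU).hom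
  rw [EtLocalLib.formallyUnramified_stalkMap_iff V hV U hU hUV hxU]
  let q := (hU.primeIdealOf ⟨x, hxU⟩).asIdeal
  haveI h1 := isLocalizedModule_stalk f hV hU hUV x hxU
  haveI h2 : IsLocalizedModule q.primeCompl (KaehlerDifferential.map Γ(Y, V) Γ(Y, V) Γ(X, U)
      (Localization.AtPrime q)) := KaehlerDifferential.isLocalizedModule_map (R := Γ(Y, V)) (S := Γ(X, U)) (T := Localization.AtPrime q) q.primeCompl
  rw [Algebra.IsUnramifiedAt, Algebra.formallyUnramified_iff]
  exact (IsLocalizedModule.linearEquiv q.primeCompl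
    ((germL (Omega.sheaf f) U x hxU).comp (OmAff.toSect f V U hUV).hom)
    (KaehlerDifferential.map Γ(Y, V) Γ(Y, V) Γ(X, U) (Localization.AtPrime q))).toEquiv.subsingleton_congr

end Groth.Agent.OmegaAffLib
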