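import Groth.Agent.OmegaAffLib.Ideal
import Groth.Agent.PullbackMod.Flat

/-!
# The affine neighbourhood of the diagonal over affine opens
-/

set_option autoImplicit false
set_option backward.isDefEq.respectTransparency false
set_option backward.defeqAttrib.useBackward true
set_option linter.style.haveILetI false

universe u

open CategoryTheory CategoryTheory.Limits AlgebraicGeometry TopologicalSpace Opposite TensorProduct

namespace Groth.Agent.OmegaAffLib

variable {X Y : Scheme.{u}} (f : X ⟶ Y) {V : Y.Opens} {U : X.Opens}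

/-- Restriction of functions near the diagonal to the diagonal. -/
noncomputable def delta (U : X.Opens) : Γ(pullback f f, OmegaSh.diagNbhd f U) ⟶ Γ(X, U) :=
  (pullback.diagonal f).appLE (OmegaSh.diagNbhd f U) U (OmegaSh.le_preimage_diagNbhd f U)

theorem delta_fst (b : Γ(X, U)) :
    delta f U ((pullback.fst f f).appLE U (OmegaSh.diagNbhd f U) inf_le_left b) = b :=
  OmegaSh.res_diagonal_app_appLE f _ (pullback.diagonal_fst f) U inf_le_left b

theorem delta_snd (b : Γ(X, U)) :
    delta f U ((pullback.snd f f).appLE U (OmegaSh.diagNbhd f U) inf_le_right b) = b :=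
  OmegaSh.res_diagonal_app_appLE f _ (pullback.diagonal_snd f) U inf_le_right b

theorem isAffineOpen_diagNbhd (hV : IsAffineOpen V) (hU : IsAffineOpen U) (h : U ≤ f ⁻¹ᵁ V) :
    IsAffineOpen (OmegaSh.diagNbhd f U) :=
  (PullbackMod.isPushout_appLE (IsPullback.of_hasPullback f f) hV hU hU h h).1

variable (h : U ≤ f ⁻¹ᵁ V)

/-- `B ⊗_A B → Γ(U ×_V U)`, `b ⊗ b' ↦ pr₁ b * pr₂ b'`. -/
noncomputable def tens :
    letI := (f.appLE V U h).hom.toAlgebra
    Γ(X, U) ⊗[Γ(Y, V)] Γ(X, U) →+* Γ(pullback f f, OmegaSh.diagNbhd f U) :=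
  letI := (f.appLE V U h).hom.toAlgebra
  letI : Algebra Γ(Y, V) Γ(pullback f f, OmegaSh.diagNbhd f U) :=
    (((pullback.fst f f).appLE U (OmegaSh.diagNbhd f U) inf_le_left).hom.comp
      (f.appLE V U h).hom).toAlgebra
  (Algebra.TensorProduct.lift (R := Γ(Y, V)) (S := Γ(Y, V)) (A := Γ(X, U)) (B := Γ(X, U))
    (C := Γ(pullback f f, OmegaSh.diagNbhd f U))
    (AlgHom.mk ((pullback.fst f f).appLE U (OmegaSh.diagNbhd f U) inf_le_left).hom fun _ => rfl)
    (AlgHom.mk ((pullback.snd f f).appLE U (OmegaSh.diagNbhd f U) inf_le_right).hom fun a => by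
      show (f.appLE V U h ≫ (pullback.snd f f).appLE U (OmegaSh.diagNbhd f U) inf_le_right) a =
        (f.appLE V U h ≫ (pullback.fst f f).appLE U (OmegaSh.diagNbhd f U) inf_le_left) a
      simp only [Scheme.Hom.appLE_comp_appLE, pullback.condition])
    (fun _ _ => Commute.all _ _)).toRingHom

theorem tens_tmul (b b' : Γ(X, U)) :
    letI := (f.appLE V U h).hom.toAlgebra
    tens f h (b ⊗ₜ b') = (pullback.fst f f).appLE U (OmegaSh.diagNbhd f U) inf_le_left b *
      (pullback.snd f f).appLE U (OmegaSh.diagNbhd f U) inf_le_right b' := by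
  letI := (f.appLE V U h).hom.toAlgebra
  letI : Algebra Γ(Y, V) Γ(pullback f f, OmegaSh.diagNbhd f U) :=
    (((pullback.fst f f).appLE U (OmegaSh.diagNbhd f U) inf_le_left).hom.comp
      (f.appLE V U h).hom).toAlgebra
  exact Algebra.TensorProduct.lift_tmul _ _ _ _ _

theorem tens_diff (b : Γ(X, U)) :
    letI := (f.appLE V U h).hom.toAlgebra
    tens f h ((1 : Γ(X, U)) ⊗ₜ b - b ⊗ₜ (1 : Γ(X, U))) = OmegaSh.diagDiff f U b := by
  letI := (f.appLE V U h).hom.toAlgebra
  rw [map_sub, tens_tmul, tens_tmul, map_one, map_one, one_mul, mul_one]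
  rfl

theorem delta_tens :
    letI := (f.appLE V U h).hom.toAlgebra
    ∀ t : Γ(X, U) ⊗[Γ(Y, V)] Γ(X, U),
      delta f U (tens f h t) = Algebra.TensorProduct.lmul' (S := Γ(X, U)) Γ(Y, V) t := by
  letI := (f.appLE V U h).hom.toAlgebra
  intro t
  induction t with
  | zero => simp
  | tmul x y => rw [tens_tmul, map_mul, delta_fst, delta_snd, Algebra.TensorProduct.lmul'_apply_tmul]
  | add x y hx hy => rw [map_add, map_add, map_add, hx, hy]

theorem tens_bijective (hV : IsAffineOpen V) (hU : IsAffineOpen U) :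
    letI := (f.appLE V U h).hom.toAlgebra
    Function.Bijective (tens f h) := by
  haveI : IsAffine _ := hV
  haveI : IsAffine _ := hU
  have hc := IsPullback.of_hasPullback f f
  haveI := isIso_pushoutSection_of_isAffineOpen hc h h rfl hV hU hU
  have hP := (isIso_pushoutSection_iff hc h h rfl).mp inferInstance
  letI := (f.appLE V U h).hom.toAlgebra
  let τ : CommRingCat.of (Γ(X, U) ⊗[Γ(Y, V)] Γ(X, U)) ⟶
      Γ(pullback f f, OmegaSh.diagNbhd f U) := CommRingCat.ofHom (tens f h)
  have hT := CommRingCat.isPushout_tensorProduct Γ(Y, V) Γ(X, U) Γ(X, U)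
  have h1 : CommRingCat.ofHom Algebra.TensorProduct.includeLeftRingHom ≫ τ =
      (pullback.fst f f).appLE U (OmegaSh.diagNbhd f U) inf_le_left :=
    CommRingCat.hom_ext (RingHom.ext fun b => by
      show tens f h (b ⊗ₜ 1) = _
      rw [tens_tmul, map_one, mul_one])
  have h2 : CommRingCat.ofHom Algebra.TensorProduct.includeRight.toRingHom ≫ τ =
      (pullback.snd f f).appLE U (OmegaSh.diagNbhd f U) inf_le_right :=
    CommRingCat.hom_ext (RingHom.ext fun b => by
      show tens f h ((1 : Γ(X, U)) ⊗ₜ b) = _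
      rw [tens_tmul, map_one, one_mul])
  have hτ : τ = (hT.isoIsPushout _ _ hP).hom := by
    apply hT.hom_ext
    · rw [IsPushout.inl_isoIsPushout_hom]; exact h1
    · rw [IsPushout.inr_isoIsPushout_hom]; exact h2
  haveI : IsIso τ := hτ ▸ inferInstance
  exact ConcreteCategory.bijective_of_isIso τ

end Groth.Agent.OmegaAffLib
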